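import Mathlib

/-!
# Relative dimension of a smooth algebra from the tangent spaces at points of connected fibres
-/

set_option autoImplicit false
set_option linter.style.haveILetI false
set_option synthInstance.maxHeartbeats 200000

universe u

open TensorProduct

namespace Groth.Agent.SmoothRelDimLib

variable {R : Type u} [CommRing R] {B : Type u} [CommRing B] [Algebra R B]

/-- The rank of the differentials at the kernel of a point is the dimension of its tangent space. -/
theorem rankAtStalk_eq_of_derivation [Algebra.Smooth R B] {K : Type u} [Field K] [Algebra R K]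
    [Algebra B K] [IsScalarTower R B K] :
    Module.rankAtStalk (R := B) Ω[B⁄R] ⟨RingHom.ker (algebraMap B K), RingHom.ker_isPrime _⟩ =
      Module.finrank K (Derivation R B K) := by
  have h1 : Module.finrank K (K ⊗[B] Ω[B⁄R]) = Module.rankAtStalk (R := B) Ω[B⁄R]
      ⟨RingHom.ker (algebraMap B K), RingHom.ker_isPrime _⟩ := by
    have h := Module.rankAtStalk_baseChange (R := B) (M := Ω[B⁄R]) (S := K) (⊥ : PrimeSpectrum K)
    rw [Module.rankAtStalk_eq_finrank_of_free] at h
    refine h.trans (congrArg _ (PrimeSpectrum.ext ?_))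
    exact (RingHom.ker_eq_comap_bot _).symm
  let e : Module.Dual K (K ⊗[B] Ω[B⁄R]) ≃+ Derivation R B K :=
    ((LinearMap.liftBaseChangeEquiv K (R := B) (M := Ω[B⁄R]) (N := K)).symm.toAddEquiv).trans
      (KaehlerDifferential.linearMapEquivDerivation R B).toAddEquiv
  let e' : Module.Dual K (K ⊗[B] Ω[B⁄R]) ≃ₗ[K] Derivation R B K :=
    e.toLinearEquiv fun c φ => Derivation.ext fun b => rfl
  rw [← h1, ← Subspace.dual_finrank_eq, e'.finrank_eq]

/-- Standard smooth charts have the expected relative dimension. -/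
theorem locally_relDim [Algebra.Smooth R B] (n : ℕ)
    (h : ∀ p : PrimeSpectrum B, Module.rankAtStalk (R := B) Ω[B⁄R] p = n) :
    RingHom.Locally (RingHom.IsStandardSmoothOfRelativeDimension n) (algebraMap R B) := by
  obtain ⟨s, hs, hst⟩ := RingHom.smooth_iff_locally_isStandardSmooth.1
    (RingHom.smooth_algebraMap.2 (inferInstance : Algebra.Smooth R B))
  refine ⟨{t ∈ s | Nontrivial (Localization.Away t)}, ?_, fun t ⟨ht, hnt⟩ => ?_⟩
  · by_contra hne
    obtain ⟨m, hm, hle⟩ := Ideal.exists_le_maximal _ hne
    refine hm.ne_top (eq_top_iff.2 (hs ▸ Ideal.span_le.2 fun t ht => ?_))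
    by_cases hnt : Nontrivial (Localization.Away t)
    · exact hle (Ideal.subset_span ⟨ht, hnt⟩)
    · rw [not_nontrivial_iff_subsingleton] at hnt
      have h0 : (0 : B) ∈ Submonoid.powers t :=
        (IsLocalization.subsingleton_iff (S := Localization.Away t) (M := Submonoid.powers t)).1 hnt
      obtain ⟨k, hk⟩ := h0
      exact hm.isPrime.mem_of_pow_mem k (show t ^ k ∈ m from (show t ^ k = 0 from hk).symm ▸ m.zero_mem)
  · haveI := hnt
    set T := Localization.Away t
    have htm : RingHom.IsStandardSmooth (algebraMap R T) := by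
      rw [IsScalarTower.algebraMap_eq R B T]
      exact hst t ht
    show RingHom.IsStandardSmoothOfRelativeDimension n ((algebraMap B T).comp (algebraMap R B))
    rw [← IsScalarTower.algebraMap_eq R B T,
      RingHom.isStandardSmoothOfRelativeDimension_algebraMap]
    haveI : Algebra.IsStandardSmooth R T := RingHom.isStandardSmooth_algebraMap.1 htm
    haveI : Algebra.FormallyEtale B T :=
      Algebra.FormallyEtale.of_isLocalization (Submonoid.powers t)
    let e := (KaehlerDifferential.tensorKaehlerEquivOfFormallyEtale R B T).symm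
    obtain ⟨q⟩ := (inferInstance : Nonempty (PrimeSpectrum T))
    have hr := Module.rankAtStalk_baseChange (R := B) (M := Ω[B⁄R]) (S := T) q
    rw [← Module.rankAtStalk_eq_of_equiv e, Module.rankAtStalk_eq_finrank_of_free, Pi.natCast_apply,
      Nat.cast_id, h] at hr
    haveI : Module.Finite T Ω[T⁄R] := inferInstance
    rw [Algebra.IsStandardSmoothOfRelativeDimension.iff_of_isStandardSmooth, ← Module.finrank_eq_rank,
      hr]

/-- Constancy of the rank along connected fibres. -/
theorem rankAtStalk_eq_of_fibres [Algebra.Smooth R B] (n : ℕ)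
    (hconn : ∀ q : PrimeSpectrum R, IsPreconnected (PrimeSpectrum.comap (algebraMap R B) ⁻¹' {q}))
    (hpt : ∀ q : PrimeSpectrum R, ∃ p : PrimeSpectrum B,
      PrimeSpectrum.comap (algebraMap R B) p = q ∧ Module.rankAtStalk (R := B) Ω[B⁄R] p = n)
    (p : PrimeSpectrum B) : Module.rankAtStalk (R := B) Ω[B⁄R] p = n := by
  obtain ⟨p₀, h1, h2⟩ := hpt (PrimeSpectrum.comap (algebraMap R B) p)
  haveI : Module.Projective B Ω[B⁄R] := Algebra.FormallySmooth.projective_kaehlerDifferential
  haveI : Module.Finite B Ω[B⁄R] := inferInstance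
  rw [← h2]
  exact Module.isLocallyConstant_rankAtStalk.apply_eq_of_isPreconnected (hconn _) rfl h1

/-- Two points joined by a family over a domain. -/
def Linked (q : PrimeSpectrum R) {k : Type u} [Field k] [Algebra R k] (x y : B →ₐ[R] k) : Prop :=
  ∃ (A : Type u) (_ : CommRing A) (_ : IsDomain A) (_ : Algebra R A) (φ : B →ₐ[R] A)
    (a b : A →ₐ[R] k), a.comp φ = x ∧ b.comp φ = y ∧
      (∀ r ∈ q.asIdeal, algebraMap R A r = 0) ∧ ∀ r ∉ q.asIdeal, IsUnit (algebraMap R A r)

/-- The prime of a point. -/
abbrev ptOf {k : Type u} [Field k] [Algebra R k] (x : B →ₐ[R] k) : PrimeSpectrum B :=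
  PrimeSpectrum.comap x.toRingHom ⊥

/-- Every prime of a fibre is contained in the prime of a point over an algebraically closed field. -/
theorem exists_ptOf_ge [Algebra.FiniteType R B] (q : PrimeSpectrum R) (k : Type u) [Field k]
    [IsAlgClosed k] [Algebra R k] (hq : RingHom.ker (algebraMap R k) = q.asIdeal)
    (p : PrimeSpectrum B) (hp : PrimeSpectrum.comap (algebraMap R B) p = q) :
    ∃ x : B →ₐ[R] k, p ≤ ptOf x := by
  let F := q.asIdeal.Fiber B
  let P : PrimeSpectrum F := PrimeSpectrum.primesOverOrderIsoFiber R B q.asIdeal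
    ⟨p.asIdeal, p.2, ⟨(congrArg PrimeSpectrum.asIdeal hp).symm⟩⟩
  obtain ⟨M, hM, hPM⟩ := Ideal.exists_le_maximal P.asIdeal P.2.ne_top
  letI : Field (F ⧸ M) := Ideal.Quotient.field M
  haveI : Module.Finite q.asIdeal.ResidueField (F ⧸ M) :=
    finite_of_finite_type_of_isJacobsonRing q.asIdeal.ResidueField (F ⧸ M)
  let τ : q.asIdeal.ResidueField →ₐ[R] k :=
    Ideal.ResidueField.liftₐ q.asIdeal (Algebra.ofId R k) (by rw [← hq]; exact le_rfl) (by
      intro r hr
      exact Ne.isUnit fun h0 => hr (show r ∈ q.asIdeal by rw [← hq]; exact h0))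
  letI : Algebra q.asIdeal.ResidueField k := τ.toRingHom.toAlgebra
  haveI : IsScalarTower R q.asIdeal.ResidueField k :=
    IsScalarTower.of_algebraMap_eq fun r => (τ.commutes r).symm
  let σ : (F ⧸ M) →ₐ[q.asIdeal.ResidueField] k := IsAlgClosed.lift
  let x : B →ₐ[R] k := ((σ.comp (Ideal.Quotient.mkₐ q.asIdeal.ResidueField M)).restrictScalars R).comp
    Algebra.TensorProduct.includeRight
  refine ⟨x, fun b hb => ?_⟩
  show σ (Ideal.Quotient.mk M (Algebra.TensorProduct.includeRight (R := R) b)) = 0
  have h1 : ((PrimeSpectrum.primesOverOrderIsoFiber R B q.asIdeal).symm P).1 = p.asIdeal := by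
    simp [P]
  rw [PrimeSpectrum.coe_primesOverOrderIsoFiber_symm_apply] at h1
  rw [Ideal.Quotient.eq_zero_iff_mem.2 (hPM (show Algebra.TensorProduct.includeRight (R := R) b ∈
    P.asIdeal by rw [← h1] at hb; exact hb)), map_zero]

theorem ptOf_mem (q : PrimeSpectrum R) {k : Type u} [Field k] [Algebra R k]
    (hq : RingHom.ker (algebraMap R k) = q.asIdeal) (x : B →ₐ[R] k) :
    PrimeSpectrum.comap (algebraMap R B) (ptOf x) = q := by
  refine PrimeSpectrum.ext (Ideal.ext fun r => ?_)
  show x (algebraMap R B r) = 0 ↔ _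
  rw [x.commutes, ← hq, RingHom.mem_ker]

/-- Connectedness of a fibre from the points over an algebraically closed field. -/
theorem isPreconnected_fibre [Algebra.FiniteType R B] (q : PrimeSpectrum R) (k : Type u) [Field k]
    [IsAlgClosed k] [Algebra R k] (hq : RingHom.ker (algebraMap R k) = q.asIdeal)
    (e₀ : B →ₐ[R] k) (h : ∀ x : B →ₐ[R] k, Relation.EqvGen (Linked q) x e₀) :
    IsPreconnected (PrimeSpectrum.comap (algebraMap R B) ⁻¹' {q}) := by
  set C := PrimeSpectrum.comap (algebraMap R B) ⁻¹' {q}
  let CC := fun x : B →ₐ[R] k => connectedComponentIn C (ptOf x)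
  have hstep : ∀ x y, Linked q x y → CC x = CC y := by
    rintro x y ⟨A, _, _, _, φ, a, b, rfl, rfl, hA, hunit⟩
    have hsub : Set.range (PrimeSpectrum.comap φ.toRingHom) ⊆ C := by
      rintro _ ⟨P, rfl⟩
      have hb : PrimeSpectrum.comap (algebraMap R A) (ptOf (B := A) b) = q := ptOf_mem q hq b
      refine PrimeSpectrum.ext (le_antisymm (fun r hr => ?_) fun r hr => ?_)
      · change φ (algebraMap R B r) ∈ P.asIdeal at hr
        rw [φ.commutes] at hr
        by_contra hrq
        exact P.2.ne_top (Ideal.eq_top_of_isUnit_mem _ hr (hunit r hrq))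
      · change φ (algebraMap R B r) ∈ P.asIdeal
        rw [φ.commutes, hA r hr]
        exact zero_mem _
    have hpre : IsPreconnected (Set.range (PrimeSpectrum.comap φ.toRingHom)) :=
      isPreconnected_range (PrimeSpectrum.continuous_comap _)
    have hm : ptOf (b.comp φ) ∈ connectedComponentIn C (ptOf (a.comp φ)) :=
      hpre.subset_connectedComponentIn ⟨ptOf a, rfl⟩ hsub ⟨ptOf b, rfl⟩
    exact connectedComponentIn_eq hm
  have haux : ∀ x y, Relation.EqvGen (Linked q) x y → CC x = CC y := fun x y hxy => by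
    induction hxy with
    | rel x y hxy => exact hstep x y hxy
    | refl x => rfl
    | symm x y _ e => exact e.symm
    | trans x y z _ _ e e' => exact e.trans e'
  have hall : ∀ x, CC x = CC e₀ := fun x => haux x e₀ (h x)
  have hC : connectedComponentIn C (ptOf e₀) = C := by
    refine Set.Subset.antisymm (connectedComponentIn_subset _ _) fun p hp => ?_
    obtain ⟨x, hx⟩ := exists_ptOf_ge q k hq p hp
    have hpx : IsPreconnected ({p, ptOf x} : Set (PrimeSpectrum B)) :=
      isPreconnected_singleton.subset_closure (Set.singleton_subset_iff.2 (Set.mem_insert _ _))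
        (Set.insert_subset (subset_closure rfl) (Set.singleton_subset_iff.2
          ((PrimeSpectrum.le_iff_mem_closure p (ptOf x)).1 hx)))
    have hxC : ptOf x ∈ C := ptOf_mem q hq x
    rw [← show CC x = connectedComponentIn C (ptOf e₀) from hall x]
    exact hpx.subset_connectedComponentIn (Set.mem_insert_of_mem _ rfl)
      (Set.insert_subset hp (Set.singleton_subset_iff.2 hxC)) (Set.mem_insert _ _)
  rw [← hC]
  exact isPreconnected_connectedComponentIn

end Groth.Agent.SmoothRelDimLib
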